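import Groth.Agent.BrownDerived.Basic
import Groth.Agent.Brown.Apply
import Groth.Agent.AcycDef.Acyclic
import Groth.Agent.AcycDef.SumPreserve
import Groth.Agent.KInj.Adjunction
import Groth.Agent.DQCoh.Coprod
import Groth.Agent.EtModAcyc.Amp
import Groth.Agent.DerPlus.Acyclic
import Mathlib

/-!
Representing complexes for `I ↦ Hom(F I, J)` on bounded below complexes of injectives, for a left exact functor
`F` of finite cohomological dimension commuting with direct sums.
-/

set_option autoImplicit false
set_option backward.isDefEq.respectTransparency false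
set_option backward.isDefEq.respectTransparency.types false
set_option linter.style.haveILetI false
set_option linter.unusedSectionVars false
set_option maxHeartbeats 1000000

universe v u₁ u₂

open CategoryTheory CategoryTheory.Limits CategoryTheory.Pretriangulated Opposite DerivedCategory

noncomputable section

namespace Groth.Agent.BrownPlus

variable {A : Type u₁} [Category.{v} A] [Abelian A] [IsGrothendieckAbelian.{v} A]
  {B : Type u₂} [Category.{v} B] [Abelian B] [IsGrothendieckAbelian.{v} B]
  (F : A ⥤ B) [F.Additive] [PreservesFiniteLimits F] {G : B ⥤ A} [G.Additive] [PreservesFiniteLimits G] (adj : G ⊣ F)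
  (hcop : ∀ T : Type v, PreservesColimitsOfShape (Discrete T) F)
  (hac : ∀ (T : Type v) (I : T → A), (∀ t, Injective (I t)) → AcycDef.Acyc F (∐ I))
  (N : ℕ) (hN : ∀ (X : A) (p : ℕ), N < p → IsZero ((F.rightDerived p).obj X))

section Small

variable [HasDerivedCategory.{v} A] [HasDerivedCategory.{v} B]
  (RF : DerivedCategory A ⥤ DerivedCategory B)
  (α : F.mapHomotopyCategory (ComplexShape.up ℤ) ⋙ Qh ⟶ Qh ⋙ RF)
  [RF.IsRightDerivedFunctor α (HomotopyCategory.quasiIso A (ComplexShape.up ℤ))]

include hN in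
/-- acyclic complexes compute `RF` -/
theorem isIso_unitQ (K : CochainComplex A ℤ) (hK : ∀ k, AcycDef.Acyc F (K.X k)) :
    IsIso ((AcycDef.unitQ F RF α).app K) :=
  (AcycDef.isIso_unitQ_iff F RF α K).2
    ((AcycDef.isDef_acyc F (n := N + 1) fun X => hN X (N + 1) N.lt_succ_self).isIso_app
      (HomotopyCategory.quasiIso A (ComplexShape.up ℤ)) RF α
      (I := (HomotopyCategory.quotient A (ComplexShape.up ℤ)).obj K) hK)

include hcop hac hN α in
/-- `RF` preserves direct sums -/
theorem preservesCoproducts_RF (T : Type v) : PreservesColimitsOfShape (Discrete T) RF := by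
  haveI := hcop T
  refine ⟨fun {K} => ?_⟩
  have hrep : ∀ t : T, ∃ I : CochainComplex A ℤ, (∀ k, Injective (I.X k)) ∧ Nonempty (Q.obj I ≅ K.obj ⟨t⟩) := fun t => by
    obtain ⟨I, s, -, hs, -, hinj⟩ := KInj.exists_kInjective ((Q (C := A)).objPreimage (K.obj ⟨t⟩))
    haveI := hs
    exact ⟨I, hinj, ⟨(asIso (Q.map s)).symm ≪≫ Q.objObjPreimageIso (K.obj ⟨t⟩)⟩⟩
  choose I hI he using hrep
  let FC := F.mapHomologicalComplex (ComplexShape.up ℤ)
  haveI : PreservesColimitsOfShape (Discrete T) FC :=
    ⟨fun {D} => ⟨fun hc => ⟨HomologicalComplex.isColimitOfEval _ _ fun k =>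
      isColimitOfPreserves (HomologicalComplex.eval A (ComplexShape.up ℤ) k ⋙ F) hc⟩⟩⟩
  let w := AcycDef.unitQ F RF α
  haveI : ∀ t, IsIso (w.app (I t)) := fun t => isIso_unitQ F N hN RF α (I t) fun k =>
    haveI := hI t k; AcycDef.acyc_injective F _
  haveI : IsIso (w.app (∐ I)) := isIso_unitQ F N hN RF α (∐ I) fun k => by
    let col := isColimitCofanMkObjOfIsColimit (HomologicalComplex.eval A (ComplexShape.up ℤ) k) _ _
      (coproductIsCoproduct I)
    let e : (∐ fun t => (I t).X k) ≅ (∐ I).X k := (coproductIsCoproduct _).coconePointUniqueUpToIso col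
    intro p hp
    exact (hac T (fun t => (I t).X k) (fun t => hI t k) p hp).of_iso ((F.rightDerived p).mapIso e.symm)
  obtain ⟨hQ⟩ := DQCoh.nonempty_isColimit_Q_coprod (BrownDerived.hKinj (B := A)) I
  obtain ⟨hQ'⟩ := DQCoh.nonempty_isColimit_Q_coprod (BrownDerived.hKinj (B := B)) fun t => FC.obj (I t)
  haveI : PreservesColimit (Discrete.functor fun t => Q.obj (I t)) RF := by
    refine preservesColimit_of_preserves_colimit_cocone hQ ((IsColimit.precomposeHomEquiv
      (Discrete.natIso fun t => asIso (w.app (I t.as)) :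
        Discrete.functor (fun t => Q.obj (FC.obj (I t))) ≅ Discrete.functor (fun t => Q.obj (I t)) ⋙ RF) _).1 ?_)
    refine IsColimit.ofIsoColimit hQ' (Cocone.ext (Q.mapIso (PreservesCoproduct.iso FC I).symm ≪≫
      asIso (w.app (∐ I))) fun t => ?_)
    have h1 : Sigma.ι (fun t => FC.obj (I t)) t.as ≫ (PreservesCoproduct.iso FC I).inv = FC.map (Sigma.ι I t.as) := by
      simp [PreservesCoproduct.iso]
    change Q.map (Sigma.ι (fun t => FC.obj (I t)) t.as) ≫ (Q.map (PreservesCoproduct.iso FC I).inv ≫ w.app (∐ I)) =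
      w.app (I t.as) ≫ RF.map (Q.map (Sigma.ι I t.as))
    rw [← Functor.map_comp_assoc, h1]
    exact w.naturality (Sigma.ι I t.as)
  exact preservesColimit_of_iso_diagram _
    (Discrete.natIso fun t => (he t.as).some : Discrete.functor (fun t => Q.obj (I t)) ≅ K)

include adj hcop hac hN α in
/-- `RF` has a right adjoint -/
theorem isLeftAdjoint_RF : RF.IsLeftAdjoint := by
  haveI : PreservesFiniteColimits G :=
    haveI : G.IsLeftAdjoint := adj.isLeftAdjoint
    inferInstance
  obtain ⟨a⟩ := KInj.nonempty_adj_Qh adj (BrownDerived.hKinj (B := A)) RF α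
  letI := a.rightAdjointCommShift ℤ
  haveI := a.commShift_of_leftAdjoint ℤ
  haveI := a.isTriangulated_rightAdjoint
  haveI := fun T : Type v => preservesCoproducts_RF F hcop hac N hN RF α T
  haveI : HasCoproducts.{v} (DerivedCategory A) := BrownDerived.hasCoproducts
  haveI := Brown.hasColimitsOfShape_nat (D := DerivedCategory A)
  exact Brown.isLeftAdjoint_of_isRepresentable RF fun Y =>
    BrownDerived.isRepresentable (Brown.isBrown_yoneda RF Y)

end Small

include adj hcop hac hN in
/-- **representing complex** -/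
theorem exists_rep (J : CochainComplex B ℤ) (k : ℤ) [J.IsStrictlyGE k] (hJ : ∀ i, Injective (J.X i)) :
    ∃ (M : CochainComplex A ℤ) (m : ℤ) (_ : M.IsStrictlyGE m) (_ : ∀ i, Injective (M.X i))
      (ε : (F.mapHomotopyCategory (ComplexShape.up ℤ)).obj ((HomotopyCategory.quotient A _).obj M) ⟶
        (HomotopyCategory.quotient B _).obj J),
      ∀ (I : CochainComplex A ℤ) (n : ℤ), I.IsStrictlyGE n → (∀ i, Injective (I.X i)) →
        Function.Bijective fun φ : (HomotopyCategory.quotient A _).obj I ⟶ (HomotopyCategory.quotient A _).obj M =>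
          (F.mapHomotopyCategory (ComplexShape.up ℤ)).map φ ≫ ε := by
  letI := BrownDerived.smallDerived A
  letI := BrownDerived.smallDerived B
  let FH := F.mapHomotopyCategory (ComplexShape.up ℤ)
  let qA := HomotopyCategory.quotient A (ComplexShape.up ℤ)
  let qB := HomotopyCategory.quotient B (ComplexShape.up ℤ)
  haveI hdef : (FH ⋙ Qh).HasRightDerivedFunctor (HomotopyCategory.quasiIso A (ComplexShape.up ℤ)) :=
    (KInj.isDeforming_Qh (BrownDerived.hKinj (B := A)) (FH ⋙ Qh)).hasRightDerivedFunctor _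
  let RF := (FH ⋙ Qh).totalRightDerived Qh (HomotopyCategory.quasiIso A (ComplexShape.up ℤ))
  let α : FH ⋙ Qh ⟶ Qh ⋙ RF :=
    (FH ⋙ Qh).totalRightDerivedUnit Qh (HomotopyCategory.quasiIso A (ComplexShape.up ℤ))
  haveI := isLeftAdjoint_RF F adj hcop hac N hN RF α
  let ad := Adjunction.ofIsLeftAdjoint RF
  haveI hα : ∀ (I : CochainComplex A ℤ), (∀ i, Injective (I.X i)) → IsIso (α.app (qA.obj I)) := fun I hI =>
    (AcycDef.isIso_unitQ_iff F RF α I).1 (isIso_unitQ F N hN RF α I fun i => haveI := hI i; AcycDef.acyc_injective F _)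
  let L := Qh.obj (qB.obj J)
  let P := RF.rightAdjoint.obj L
  obtain ⟨M₀, s₀, hM₀, hs₀, -, hinj₀⟩ := KInj.exists_kInjective ((Q (C := A)).objPreimage P)
  haveI := hs₀
  haveI := hM₀
  let e₀ : Q.obj M₀ ≅ P := (asIso (Q.map s₀)).symm ≪≫ Q.objObjPreimageIso P
  haveI : J.IsKInjective := haveI := hJ; CochainComplex.isKInjective_of_injective J k
  haveI : L.IsGE k := TStructure.t.isGE_of_iso ((quotientCompQhIso B).app J).symm k
  -- the representing object is bounded below
  have hlow : ∀ i : ℤ, i + N < k → IsZero (M₀.homology i) := by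
    intro i hi
    let S : CochainComplex A ℤ := (HomologicalComplex.single A (ComplexShape.up ℤ) i).obj (M₀.cycles i)
    haveI : S.IsStrictlyGE i := inferInstance
    obtain ⟨I, s, hs, hI, hGE⟩ := CochainComplex.Plus.modelCategoryQuillen.exists_quasiIso_injective S i
    haveI := hs
    haveI := hGE
    haveI := hα I hI
    have hex : ∀ j, i + (N + 1 : ℕ) ≤ j →
        ((F.mapHomologicalComplex (ComplexShape.up ℤ)).obj I).ExactAt j := fun j hj =>
      EtModAcyc.exactAt_map_acyclic F I (N + 1) i i
        (fun m p hp => haveI := hI m; AcycDef.acyc_injective F (I.X m) p hp)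
        (fun m p hp => hN _ p (by omega))
        (fun m hm => by
          haveI : IsIso (HomologicalComplex.homologyMap s m) :=
            (quasiIsoAt_iff_isIso_homologyMap s m).1 (hs.quasiIsoAt m)
          exact ((HomologicalComplex.exactAt_iff_isZero_homology _ _).1
            (HomologicalComplex.exactAt_single_obj _ _ _ _ (by omega))).of_iso
              (asIso (HomologicalComplex.homologyMap s m)).symm)
        N.succ_pos j hj
    haveI : (Q.obj ((F.mapHomologicalComplex (ComplexShape.up ℤ)).obj I)).IsLE (i + N) :=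
      (isLE_iff _ _).2 fun j hj => ((HomologicalComplex.exactAt_iff_isZero_homology _ _).1
        (hex j (by omega))).of_iso ((homologyFunctorFactors B j).app _)
    let eI : RF.obj (Q.obj S) ≅ Q.obj ((F.mapHomologicalComplex (ComplexShape.up ℤ)).obj I) :=
      RF.mapIso (asIso (Q.map s) ≪≫ ((quotientCompQhIso A).app I).symm) ≪≫
        (asIso (α.app (qA.obj I))).symm ≪≫ (quotientCompQhIso B).app _
    have hzero : ∀ ψ : Q.obj S ⟶ Q.obj M₀, ψ = 0 := by
      intro ψ
      have h0 : ∀ χ : RF.obj (Q.obj S) ⟶ L, χ = 0 := fun χ => by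
        rw [← cancel_epi eI.inv, comp_zero]
        exact TStructure.t.zero_of_isLE_of_isGE _ (i + N) k hi
          (inferInstanceAs ((Q.obj ((F.mapHomologicalComplex (ComplexShape.up ℤ)).obj I)).IsLE (i + N)))
          (inferInstanceAs (L.IsGE k))
      rw [← cancel_mono e₀.hom, zero_comp]
      refine (ad.homEquiv _ _).symm.injective ?_
      exact (h0 _).trans (h0 _).symm
    let ι : S ⟶ M₀ := HomologicalComplex.mkHomFromSingle (M₀.iCycles i) (fun j _ => M₀.iCycles_d i j)
    have hι : HomologicalComplex.homologyMap ι i = 0 := by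
      rw [← cancel_mono ((homologyFunctorFactors A i).inv.app M₀), zero_comp]
      have h := (homologyFunctorFactors A i).inv.naturality ι
      simp only [Functor.comp_map, HomologicalComplex.homologyFunctor_map] at h
      rw [h, hzero (Q.map ι), Functor.map_zero, comp_zero]
    haveI : IsIso (HomologicalComplex.cyclesMap ι i) := by
      have e : HomologicalComplex.cyclesMap ι i = (HomologicalComplex.singleObjCyclesSelfIso _ _ _).hom := by
        rw [← cancel_mono (M₀.iCycles i), HomologicalComplex.cyclesMap_i]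
        rw [HomologicalComplex.singleObjCyclesSelfIso_hom, Category.assoc]
        simp [ι, S]
      rw [e]
      infer_instance
    have hπ : M₀.homologyπ i = 0 := by
      rw [← cancel_epi (HomologicalComplex.cyclesMap ι i), comp_zero, ← HomologicalComplex.homologyπ_naturality,
        hι, comp_zero]
    exact IsZero.of_epi_eq_zero _ hπ
  let m := k - N
  haveI : M₀.IsGE m := (CochainComplex.isGE_iff _ _).2 fun i hi =>
    (HomologicalComplex.exactAt_iff_isZero_homology _ _).2 (hlow i (by omega))
  obtain ⟨M, t, ht, hM, hMGE⟩ :=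
    CochainComplex.Plus.modelCategoryQuillen.exists_quasiIso_injective (M₀.truncGE m) m
  haveI := ht
  haveI := hMGE
  haveI : M.IsKInjective := haveI := hM; CochainComplex.isKInjective_of_injective M m
  let e : Qh.obj (qA.obj M) ≅ P :=
    (quotientCompQhIso A).app M ≪≫ (asIso (Q.map (M₀.πTruncGE m ≫ t))).symm ≪≫ e₀
  haveI := hα M hM
  let ε' : Qh.obj (FH.obj (qA.obj M)) ⟶ Qh.obj (qB.obj J) := α.app (qA.obj M) ≫ (ad.homEquiv _ L).symm e.hom
  obtain ⟨ε, hε⟩ := (CochainComplex.IsKInjective.Qh_map_bijective (FH.obj (qA.obj M)) J).2 ε'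
  refine ⟨M, m, hMGE, hM, ε, fun I n hn hI => ?_⟩
  haveI := hn
  haveI := hα I hI
  have key : ∀ φ : qA.obj I ⟶ qA.obj M, Qh.map (FH.map φ ≫ ε) =
      α.app (qA.obj I) ≫ (ad.homEquiv _ L).symm (Qh.map φ ≫ e.hom) := fun φ => by
    rw [Functor.map_comp, hε, Adjunction.homEquiv_naturality_left_symm]
    exact (reassoc_of% (α.naturality φ)) _
  have hbij : Function.Bijective fun φ : qA.obj I ⟶ qA.obj M =>
      α.app (qA.obj I) ≫ (ad.homEquiv _ L).symm (Qh.map φ ≫ e.hom) :=
    ((asIso (α.app (qA.obj I))).homFromEquiv.symm.bijective).comp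
      ((ad.homEquiv _ L).symm.bijective.comp ((e.homToEquiv).bijective.comp
        (CochainComplex.IsKInjective.Qh_map_bijective (qA.obj I) M)))
  have hJb := CochainComplex.IsKInjective.Qh_map_bijective (FH.obj (qA.obj I)) J
  exact ⟨fun φ φ' h => hbij.1 ((key φ).symm.trans ((congrArg Qh.map h).trans (key φ'))), fun ψ => by
    obtain ⟨φ, hφ⟩ := hbij.2 (Qh.map ψ)
    exact ⟨φ, hJb.1 ((key φ).trans hφ)⟩⟩

end Groth.Agent.BrownPlus
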