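import Groth.Agent.BrownPlus.Basic
import Mathlib

/-!
The right derived functor on `D⁺` of a left exact functor of finite cohomological dimension commuting with sums
is a left adjoint.
-/

set_option autoImplicit false
set_option backward.isDefEq.respectTransparency false
set_option backward.isDefEq.respectTransparency.types false
set_option linter.style.haveILetI false
set_option linter.unusedSectionVars false
set_option maxHeartbeats 1000000

universe v u₁ u₂

open CategoryTheory CategoryTheory.Limits Opposite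

attribute [local instance] HasDerivedCategory.standard

noncomputable section

namespace Groth.Agent.BrownPlus

variable {A : Type u₁} [Category.{v} A] [Abelian A] [IsGrothendieckAbelian.{v} A]
  {B : Type u₂} [Category.{v} B] [Abelian B] [IsGrothendieckAbelian.{v} B]

/-- **existence of the right adjoint on `D⁺`** -/
theorem isLeftAdjoint_rightDerivedPlus (F : A ⥤ B) [F.Additive] [PreservesFiniteLimits F] {G : B ⥤ A} [G.Additive]
    [PreservesFiniteLimits G] (adj : G ⊣ F)
    (hcop : ∀ T : Type v, PreservesColimitsOfShape (Discrete T) F)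
    (hac : ∀ (T : Type v) (I : T → A), (∀ t, Injective (I t)) → AcycDef.Acyc F (∐ I))
    (N : ℕ) (hN : ∀ (X : A) (p : ℕ), N < p → IsZero ((F.rightDerived p).obj X)) :
    F.rightDerivedFunctorPlus.IsLeftAdjoint := by
  refine Functor.isLeftAdjoint_of_rightAdjointObjIsDefined_eq_top ?_
  ext D
  simp only [Pi.top_apply, Prop.top_eq_true, iff_true]
  rw [Functor.rightAdjointObjIsDefined_iff]
  obtain ⟨k, hk⟩ : ∃ k : ℤ, D.IsGE k := by
    obtain ⟨n, hn⟩ := D.property
    exact ⟨n, (D.isGE_ι_obj_iff n).1 hn⟩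
  obtain ⟨J₀, hJ₀, ⟨eD⟩⟩ := DerivedCategory.Plus.exists_injective_nonempty_iso D k
  let J := (InjectiveObject.ι B).mapCochainComplexPlus.obj J₀
  haveI : J.obj.IsStrictlyGE k :=
    (CochainComplex.isStrictlyGE_mapHomologicalComplex_obj_iff J₀.obj (InjectiveObject.ι B) k).2 hJ₀
  obtain ⟨M, m, hM, hMi, ε, hε⟩ := exists_rep F adj hcop hac N hN J.obj k fun i => (J₀.obj.X i).property
  haveI := hM
  let Mp : CochainComplex.Plus A := ⟨M, m, hM⟩
  let qA := HomotopyCategory.Plus.quotient A
  let qB := HomotopyCategory.Plus.quotient B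
  let M₀ : CochainComplex (InjectiveObject A) ℤ := HomologicalComplex.liftObjectProperty _ M hMi
  have hM₀ : M₀.IsStrictlyGE m := by
    rwa [← CochainComplex.isStrictlyGE_mapHomologicalComplex_obj_iff _ (InjectiveObject.ι _)]
  haveI hu : IsIso (F.rightDerivedFunctorPlusUnit.app (qA.obj Mp)) := inferInstanceAs (IsIso
    (F.rightDerivedFunctorPlusUnit.app (qA.obj ((InjectiveObject.ι A).mapCochainComplexPlus.obj ⟨M₀, m, hM₀⟩))))
  let εp : F.mapHomotopyCategoryPlus.obj (qA.obj Mp) ⟶ qB.obj J := ObjectProperty.homMk ε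
  let ε' : F.rightDerivedFunctorPlus.obj (DerivedCategory.Plus.Qh.obj (qA.obj Mp)) ⟶ D :=
    inv (F.rightDerivedFunctorPlusUnit.app (qA.obj Mp)) ≫ DerivedCategory.Plus.Qh.map εp ≫ eD.hom
  -- universality
  have huniv : ∀ K : DerivedCategory.Plus A, Function.Bijective
      fun g : K ⟶ DerivedCategory.Plus.Qh.obj (qA.obj Mp) => F.rightDerivedFunctorPlus.map g ≫ ε' := by
    intro K
    obtain ⟨a, ha⟩ : ∃ a : ℤ, K.IsGE a := by
      obtain ⟨n, hn⟩ := K.property
      exact ⟨n, (K.isGE_ι_obj_iff n).1 hn⟩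
    obtain ⟨I₀, hI₀, ⟨eK⟩⟩ := DerivedCategory.Plus.exists_injective_nonempty_iso K a
    let I := (InjectiveObject.ι A).mapCochainComplexPlus.obj I₀
    let KI := qA.obj I
    let eK' : DerivedCategory.Plus.Qh.obj KI ≅ K := eK
    haveI : IsIso (F.rightDerivedFunctorPlusUnit.app KI) := inferInstanceAs (IsIso
      (F.rightDerivedFunctorPlusUnit.app (qA.obj ((InjectiveObject.ι A).mapCochainComplexPlus.obj I₀))))
    have hMK : CochainComplex.IsKInjective (qA.obj Mp).1.as := by
      haveI := hMi
      exact CochainComplex.isKInjective_of_injective M m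
    have hJK : CochainComplex.IsKInjective (qB.obj J).1.as := by
      haveI : ∀ i, Injective (J.obj.X i) := fun i => (J₀.obj.X i).property
      exact CochainComplex.isKInjective_of_injective J.obj k
    have hbase : Function.Bijective
        fun φ : KI ⟶ qA.obj Mp => F.mapHomotopyCategoryPlus.map φ ≫ εp := by
      have h := hε I.obj a ((CochainComplex.isStrictlyGE_mapHomologicalComplex_obj_iff I₀.obj (InjectiveObject.ι A) a).2 hI₀)
        fun i => (I₀.obj.X i).property
      refine ⟨fun φ φ' e => InducedCategory.hom_ext (h.1 (congrArg (fun z => z.hom) e)), fun ψ => ?_⟩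
      obtain ⟨φ, hφ⟩ := h.2 ψ.hom
      exact ⟨ObjectProperty.homMk φ, InducedCategory.hom_ext hφ⟩
    have hQA := DerivedCategory.Plus.Qh_map_bijective_of_isKInjective KI (qA.obj Mp) hMK
    have hQB := DerivedCategory.Plus.Qh_map_bijective_of_isKInjective (F.mapHomotopyCategoryPlus.obj KI) (qB.obj J) hJK
    let u := F.rightDerivedFunctorPlusUnit.app KI
    let E : (F.rightDerivedFunctorPlus.obj (DerivedCategory.Plus.Qh.obj KI) ⟶ D) →
        (F.rightDerivedFunctorPlus.obj K ⟶ D) := fun z => F.rightDerivedFunctorPlus.map eK'.inv ≫ z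
    have key : ∀ φ : KI ⟶ qA.obj Mp,
        F.rightDerivedFunctorPlus.map (DerivedCategory.Plus.Qh.map φ) ≫ ε' =
          inv u ≫ DerivedCategory.Plus.Qh.map (F.mapHomotopyCategoryPlus.map φ ≫ εp) ≫ eD.hom := fun φ => by
      rw [IsIso.eq_inv_comp]
      refine ((reassoc_of% (F.rightDerivedFunctorPlusUnit.naturality φ)) ε').symm.trans ?_
      simp [ε']
    have hg : ∀ g : K ⟶ DerivedCategory.Plus.Qh.obj (qA.obj Mp), F.rightDerivedFunctorPlus.map g ≫ ε' =
        E (F.rightDerivedFunctorPlus.map (eK'.hom ≫ g) ≫ ε') := fun g => by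
      simp only [E]
      rw [← Functor.map_comp_assoc, Iso.inv_hom_id_assoc]
    have hEb : Function.Bijective E :=
      ((F.rightDerivedFunctorPlus.mapIso eK').homFromEquiv (Z := D)).bijective
    have hmid : Function.Bijective fun g : DerivedCategory.Plus.Qh.obj KI ⟶ DerivedCategory.Plus.Qh.obj (qA.obj Mp) =>
        F.rightDerivedFunctorPlus.map g ≫ ε' := by
      refine ⟨fun g g' e => ?_, fun z => ?_⟩
      · obtain ⟨φ, rfl⟩ := hQA.2 g
        obtain ⟨φ', rfl⟩ := hQA.2 g'
        have e' : F.rightDerivedFunctorPlus.map (DerivedCategory.Plus.Qh.map φ) ≫ ε' =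
            F.rightDerivedFunctorPlus.map (DerivedCategory.Plus.Qh.map φ') ≫ ε' := e
        rw [key, key, cancel_epi, cancel_mono] at e'
        rw [hbase.1 (hQB.1 e')]
      · obtain ⟨ψ, hψ⟩ := hQB.2 (u ≫ z ≫ eD.inv)
        obtain ⟨φ, hφ⟩ := hbase.2 ψ
        refine ⟨DerivedCategory.Plus.Qh.map φ, (key φ).trans ?_⟩
        have hφ' : F.mapHomotopyCategoryPlus.map φ ≫ εp = ψ := hφ
        rw [hφ', hψ]
        simp [u]
    have := hEb.comp (hmid.comp (eK'.homFromEquiv (Z := DerivedCategory.Plus.Qh.obj (qA.obj Mp))).symm.bijective)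
    exact (funext hg : (fun g : K ⟶ DerivedCategory.Plus.Qh.obj (qA.obj Mp) => F.rightDerivedFunctorPlus.map g ≫ ε') = _) ▸ this
  exact ⟨DerivedCategory.Plus.Qh.obj (qA.obj Mp),
    ⟨{ homEquiv := fun {K} => Equiv.ofBijective _ (huniv K)
       homEquiv_comp := fun {K K'} u v => by
        show F.rightDerivedFunctorPlus.map (u ≫ v) ≫ ε' = _
        rw [Functor.map_comp, Category.assoc]
        rfl }⟩⟩

end Groth.Agent.BrownPlus
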